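import Groth.Agent.Hensel.K140.LocalJ2
import Groth.Agent.S2046
import Groth.Agent.S2791
import Groth.Prelude.Def_EGA4b
import Groth.Prelude.Def_Hensel

/-!
# Strict henselizations of excellent local rings are excellent
-/

set_option autoImplicit false
universe u

namespace K956.Exc

/-- Strict henselizations of excellent local rings are excellent. -/
theorem isExcellent_strictHenselization (A R : Type u) [CommRing A] [IsLocalRing A] [CommRing R] [IsLocalRing R]
    [Algebra A R] [IsLocalHom (algebraMap A R)] [Hensel.IsStrictHenselization A R] (hA : EGA4.IsExcellent A) :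
    EGA4.IsExcellent R := by
  have hN : IsNoetherianRing A := hA.1
  have h1 : CAlg.IsGRing R := Groth.Agent.S2046.result hA.2.2.1
  exact ⟨h1.1, Groth.Agent.S2791.result A R hA.2.1, h1, K140.LocalJ2.isJ2_of_isGRing R h1⟩

/-- (EX) -/
theorem isExcellent_of_isStrictHenselization (R R₂ : Type u) [CommRing R] [IsDomain R] [IsDiscreteValuationRing R]
    (hR : EGA4.IsExcellent R) [CommRing R₂] [IsLocalRing R₂] [Algebra R R₂] [IsLocalHom (algebraMap R R₂)]
    [Hensel.IsStrictHenselization R R₂] : EGA4.IsExcellent R₂ :=
  isExcellent_strictHenselization R R₂ hR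

end K956.Exc
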